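import Groth.Agent.AVRRLib.Poly
import Groth.Agent.AVLib.Deg.AV
import Groth.Agent.AVLib.Cube
import Groth.Agent.IntLib.Pairing
import Groth.Agent.IntLib.Coeff
import Groth.Agent.S7859

/-!
# Euler characteristics of powers of line bundles on abelian varieties
-/

set_option autoImplicit false
set_option backward.isDefEq.respectTransparency false
set_option backward.isDefEq.respectTransparency.types false
set_option linter.style.haveILetI false
set_option maxHeartbeats 1000000

universe u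

open CategoryTheory CategoryTheory.Limits MonoidalCategory CartesianMonoidalCategory MonObj AlgebraicGeometry
open Groth.Agent.PicLib Groth.Agent.AmpleLib MvPolynomial

noncomputable section

namespace Groth.Agent.AVRRLib

variable (k : Type u) [Field k] {X : Scheme.{u}} [X.Over (Spec (CommRingCat.of k))]
  [IsProper (X ↘ Spec (CommRingCat.of k))]

/-- The Euler characteristic of a class. -/
def chiP (c : Pic X) : ℤ :=
  Quotient.liftOn c (fun L => Curv2.euler k X L.1) fun _ _ ⟨e⟩ => CurveLib.euler_iso (K := k) e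

theorem chiP_cls {L : X.Modules} (hL : PicF.IsInvertible L) : chiP k (cls hL) = Curv2.euler k X L := rfl

/-- The polynomial of two classes. -/
theorem exists_poly₂ {g : ℕ} (hg : topologicalKrullDim X = g) (c d : Pic X) :
    ∃ P : MvPolynomial (Fin 2) ℚ, P.totalDegree ≤ g ∧
      ∀ a b : ℕ, (chiP k (c ^ a * d ^ b) : ℚ) = eval ![(a : ℚ), (b : ℚ)] P := by
  obtain ⟨L, hL, rfl⟩ := exists_cls c
  obtain ⟨N, hN, rfl⟩ := exists_cls d
  haveI := EulerIneqLib.isNoetherian_proper (X := X) k
  have hO : Coh.IsCoh (Coh.structureModule X) :=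
    CurveLib.isCoh_of_isInvertible ParaFLib.isInvertible_structureModule
  obtain ⟨P, hdeg, hP⟩ := HilbLib.snapper k 2 ![L, N] (fun i => by fin_cases i <;> assumption) _ hO g
    ((Topology.IsInducing.subtypeVal.topologicalKrullDim_le).trans hg.le)
  refine ⟨P, hdeg, fun a b => ?_⟩
  have h := hP ![a, b]
  have hv : (fun i => ((![a, b] : Fin 2 → ℕ) i : ℚ)) = ![(a : ℚ), (b : ℚ)] := by
    funext i; fin_cases i <;> rfl
  rw [hv] at h
  rw [← h, ← cls_tensorPow hL, ← cls_tensorPow hN, ← cls_tensor, chiP_cls]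
  obtain ⟨e⟩ := IntLib.mk_eq_mk.1 (show
      IntLib.mk (Curv2.tensorPows (Coh.structureModule X) 2 ![L, N] ![a, b]) =
        IntLib.mk (CohB1.tensorMod (CohB1.tensorPow L a) (CohB1.tensorPow N b)) by
    rw [IntLib.mk_tensorPows, IntLib.mk_tensor, IntLib.mk_tensorPow, IntLib.mk_tensorPow, IntLib.mk_structureModule,
      _root_.one_mul, Fin.prod_univ_two]
    rfl)
  rw [CurveLib.euler_iso (K := k) e]

variable {A : Over (Spec (CommRingCat.of k))} [GrpObj A] [IsProper A.hom] [GeometricallyIntegral A.hom]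

local instance instOverA : A.left.Over (Spec (CommRingCat.of k)) := ⟨A.hom⟩

local instance instProperA : IsProper (A.left ↘ Spec (CommRingCat.of k)) := ‹IsProper A.hom›

theorem chiP_pull_two {g : ℕ} (hg : topologicalKrullDim A.left = g) (c : Pic A.left) :
    chiP k (pull (𝟙 A ^ 2).left c) = 4 ^ g * chiP k c := by
  obtain ⟨hfin, hflat, hrank⟩ := AVLib.npow_spec (A := A) hg 2 (by norm_num)
  haveI := hfin
  haveI := hflat
  obtain ⟨L, hL, rfl⟩ := exists_cls c
  rw [pull_cls, chiP_cls, chiP_cls]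
  haveI := EulerIneqLib.isNoetherian_proper (X := A.left) k
  refine (Groth.Agent.S7859.result k A A (𝟙 A ^ 2) (2 ^ (2 * g)) hrank L (CurveLib.isCoh_of_isInvertible hL)).trans ?_
  push_cast
  rw [pow_mul]
  norm_num

/-- `χ(L ^ a) = a ^ g χ(L)`. -/
theorem chiP_pow {g : ℕ} (hg : topologicalKrullDim A.left = g) (c : Pic A.left) (a : ℕ) :
    (chiP k (c ^ a) : ℚ) = (a : ℚ) ^ g * chiP k c := by
  obtain ⟨P, hdeg, hP⟩ := exists_poly₂ k hg c (pull ((𝟙 A)⁻¹ : A ⟶ A).left c)
  have h := eval_eq_mul_pow P hdeg fun a b => ?_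
  · have ha := hP a 0
    have h1 := hP 1 0
    simp only [Nat.cast_zero, Nat.cast_one, pow_zero, _root_.mul_one, pow_one] at ha h1
    rw [ha, h (a : ℚ) 0, h1, add_zero, _root_.mul_comm]
  · have h2 := AVLib.nat_pull (c ^ a * pull ((𝟙 A)⁻¹ : A ⟶ A).left c ^ b) 2
    have hinv : pull ((𝟙 A)⁻¹ : A ⟶ A).left (pull ((𝟙 A)⁻¹ : A ⟶ A).left c) = c := by
      rw [AVLib.pull_left_comp, GrpObj.comp_inv, Category.comp_id, inv_inv, Over.id_left, pull_id]
    have hinv' : pull ((𝟙 A)⁻¹ : A ⟶ A).left (c ^ a * pull ((𝟙 A)⁻¹ : A ⟶ A).left c ^ b) =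
        pull ((𝟙 A)⁻¹ : A ⟶ A).left c ^ a * c ^ b := by
      rw [map_mul, map_pow, map_pow, hinv]
    rw [show Nat.choose (2 + 1) 2 = 3 by decide, show Nat.choose 2 2 = 1 by decide, pow_one, hinv'] at h2
    have h3 := congrArg (chiP k) h2
    rw [chiP_pull_two k hg] at h3
    have h4 : ∀ x y : Pic A.left, (x ^ a * y ^ b) ^ 3 * (y ^ a * x ^ b) = x ^ (3 * a + b) * y ^ (a + 3 * b) := fun x y => by
      rw [mul_pow, ← pow_mul, ← pow_mul, pow_add, pow_add, _root_.mul_comm a 3, _root_.mul_comm b 3]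
      ac_rfl
    rw [h4] at h3
    have h5 := hP (3 * a + b) (a + 3 * b)
    push_cast at h5
    rw [← h5, ← hP a b, ← h3]
    push_cast
    rfl

/-- `χ(L⁻¹) = (-1) ^ g χ(L)`. -/
theorem chiP_inv {g : ℕ} (hg : topologicalKrullDim A.left = g) (c : Pic A.left) :
    (chiP k c⁻¹ : ℚ) = (-1) ^ g * chiP k c := by
  obtain ⟨P, hdeg, hP⟩ := exists_poly₂ k hg c c⁻¹
  let u : Fin 2 → MvPolynomial (Fin 2) ℚ := ![X 0 + X 1, X 1]
  have hu : aeval u P = MvPolynomial.C (chiP k c : ℚ) * X 0 ^ g := IntLib.mvPoly_eq_of_nat fun n => by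
    rw [eval_aeval, map_mul, eval_C, map_pow, eval_X]
    have h := hP (n 0 + n 1) (n 1)
    rw [pow_add, inv_pow, _root_.mul_assoc, mul_inv_cancel, _root_.mul_one, chiP_pow k hg] at h
    rw [_root_.mul_comm, h]
    congr 2
    funext i
    fin_cases i <;> simp [u]
  have h := congrArg (eval ![(-1 : ℚ), 1]) hu
  rw [eval_aeval, map_mul, eval_C, map_pow, eval_X] at h
  have h1 := hP 0 1
  simp only [pow_zero, _root_.one_mul, pow_one, Nat.cast_zero, Nat.cast_one] at h1
  rw [h1, _root_.mul_comm ((-1 : ℚ) ^ g)]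
  refine Eq.trans ?_ h
  congr 2
  funext i
  fin_cases i <;> simp [u]

theorem factorial_mul_euler {g : ℕ} (hg : topologicalKrullDim A.left = g) {L M : A.left.Modules}
    (hL : PicF.IsInvertible L) (hLM : Nonempty (CohB1.tensorMod L M ≅ Coh.structureModule A.left))
    (hM : PicF.IsInvertible M) :
    ((g.factorial : ℕ) : ℤ) * Curv2.euler k A.left L =
      FGA.intNum k A.left g (fun _ : Fin g => M) (Coh.structureModule A.left) := by
  classical
  have hinv : cls hM = (cls hL)⁻¹ := eq_inv_of_mul_eq_one_right ((cls_tensor hL hM).symm.trans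
    ((cls_eq_one _).2 hLM))
  have hcM : (chiP k (cls hM) : ℤ) = (-1) ^ g * chiP k (cls hL) := by
    have := chiP_inv k hg (cls hL)
    rw [← hinv] at this
    exact_mod_cast this
  rw [IntLib.intNum_eq k hg.le _ _ (fun _ => hM), IntLib.pairing_prod]
  have hterm : ∀ I : Finset (Fin g),
      Curv2.euler k A.left (CohB1.tensorMod (FGA.tensorList ((I.sort (· ≤ ·)).map fun _ => M))
        (Coh.structureModule A.left)) = (I.card : ℤ) ^ g * chiP k (cls hM) := fun I => by
    obtain ⟨e⟩ := IntLib.mk_eq_mk.1 (show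
      IntLib.mk (CohB1.tensorMod (FGA.tensorList ((I.sort (· ≤ ·)).map fun _ => M)) (Coh.structureModule A.left)) =
        IntLib.mk (CohB1.tensorPow M I.card) by
      rw [IntLib.mk_tensor, IntLib.mk_structureModule, _root_.mul_one, IntLib.mk_finset_list, Finset.prod_const,
        IntLib.mk_tensorPow])
    rw [CurveLib.euler_iso (K := k) e, ← chiP_cls k (isInvertible_tensorPow hM I.card), cls_tensorPow hM]
    exact_mod_cast chiP_pow k hg (cls hM) I.card
  simp only [hterm, ← _root_.mul_assoc, ← Finset.sum_mul, alt_sum_pow, hcM]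
  rw [← chiP_cls k hL]
  have hgg : ((-1 : ℤ) ^ g) * (-1) ^ g = 1 := by rw [← mul_pow]; simp
  linear_combination (-((g.factorial : ℤ) * chiP k (cls hL))) * hgg

end Groth.Agent.AVRRLib
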