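import Groth.Agent.IntLib.Coeff
import Mathlib

/-!
# Polynomials with the functional equation of multiplication by two on an abelian variety
-/

set_option autoImplicit false

open MvPolynomial Finset

namespace Groth.Agent.AVRRLib

theorem coeff_scale {σ : Type} [Fintype σ] [DecidableEq σ] (c : σ → ℚ) (Q : MvPolynomial σ ℚ) (e : σ →₀ ℕ) :
    coeff e (aeval (fun i => MvPolynomial.C (c i) * X i) Q) = (∏ i, c i ^ e i) * coeff e Q := by
  induction Q using MvPolynomial.induction_on' with
  | monomial u a =>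
    have h : aeval (fun i => MvPolynomial.C (c i) * X i) (monomial u a) = monomial u (a * ∏ i, c i ^ u i) := by
      rw [aeval_monomial, Finsupp.prod_fintype _ _ (fun i => pow_zero _), MvPolynomial.algebraMap_eq]
      simp only [mul_pow, Finset.prod_mul_distrib, ← map_pow, ← map_prod]
      rw [← mul_assoc, ← map_mul, monomial_eq, Finsupp.prod_fintype _ _ (fun i => pow_zero _)]
    rw [h, coeff_monomial, coeff_monomial]
    by_cases hue : u = e
    · subst hue; simp [mul_comm]
    · simp [hue]
  | add p q hp hq => rw [map_add, coeff_add, coeff_add, hp, hq, mul_add]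

theorem eval_aeval {σ : Type} (x : σ → ℚ) (u : σ → MvPolynomial σ ℚ) (P : MvPolynomial σ ℚ) :
    eval x (aeval u P) = eval (fun i => eval x (u i)) P := by
  induction P using MvPolynomial.induction_on with
  | C a => simp
  | add p q hp hq => simp only [map_add, hp, hq]
  | mul_X p i hp => simp only [map_mul, hp, aeval_X, eval_X]

theorem totalDegree_aeval_le {σ : Type} (f : σ → MvPolynomial σ ℚ) (hf : ∀ i, (f i).totalDegree ≤ 1)
    (P : MvPolynomial σ ℚ) : (aeval f P).totalDegree ≤ P.totalDegree := by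
  rw [aeval_def, eval₂_eq, ]
  refine (totalDegree_finset_sum _ _).trans (Finset.sup_le fun u hu => ?_)
  refine (totalDegree_mul _ _).trans ?_
  rw [MvPolynomial.algebraMap_eq, totalDegree_C, zero_add]
  refine (totalDegree_finset_prod _ _).trans ((Finset.sum_le_sum fun i _ => ?_).trans (le_totalDegree hu))
  exact (totalDegree_pow _ _).trans ((Nat.mul_le_mul_left _ (hf i)).trans (mul_one _).le)

/-- A polynomial of degree at most `g` with the functional equation of `[2]` is a multiple of `(a+b)^g`. -/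
theorem eval_eq_mul_pow {g : ℕ} (P : MvPolynomial (Fin 2) ℚ) (hP : P.totalDegree ≤ g)
    (h : ∀ a b : ℕ, eval ![3 * (a : ℚ) + b, (a : ℚ) + 3 * b] P = 4 ^ g * eval ![(a : ℚ), (b : ℚ)] P) :
    ∀ a b : ℚ, eval ![a, b] P = eval ![1, 0] P * (a + b) ^ g := by
  classical
  let u : Fin 2 → MvPolynomial (Fin 2) ℚ := ![MvPolynomial.C (1/2) * (X 0 + X 1), MvPolynomial.C (1/2) * (X 0 - X 1)]
  set Q := aeval u P with hQ
  have hQe : ∀ x : Fin 2 → ℚ, eval x Q = eval ![(x 0 + x 1) / 2, (x 0 - x 1) / 2] P := fun x => by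
    rw [hQ, eval_aeval]
    congr 2
    funext i
    fin_cases i <;> simp [u] <;> ring
  have hAB : aeval (![MvPolynomial.C 3 * X 0 + X 1, X 0 + MvPolynomial.C 3 * X 1] : Fin 2 → MvPolynomial (Fin 2) ℚ) P =
      MvPolynomial.C (4 ^ g) * P := by
    refine IntLib.mvPoly_eq_of_nat fun n => ?_
    rw [eval_aeval, map_mul, eval_C]
    have h' := h (n 0) (n 1)
    convert h' using 3
    · funext i; fin_cases i <;> simp
    · congr 1; funext i; fin_cases i <;> simp
  have hfun : ∀ a b : ℚ, eval ![3 * a + b, a + 3 * b] P = 4 ^ g * eval ![a, b] P := fun a b => by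
    have h' := congrArg (eval ![a, b]) hAB
    rw [eval_aeval, map_mul, eval_C] at h'
    convert h' using 3
    funext i; fin_cases i <;> simp
  have hscale : aeval (fun i => MvPolynomial.C ((![4, 2] : Fin 2 → ℚ) i) * X i) Q = MvPolynomial.C (4 ^ g) * Q := by
    refine IntLib.mvPoly_eq_of_nat fun n => ?_
    rw [eval_aeval, map_mul, eval_C, hQe, hQe, ← hfun]
    congr 2
    funext i; fin_cases i <;> simp <;> ring
  have hdeg : Q.totalDegree ≤ g := (totalDegree_aeval_le u (fun i => by
    fin_cases i <;> simp only [u] <;>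
    · refine (totalDegree_mul _ _).trans ?_
      rw [totalDegree_C, zero_add]
      first
        | exact (totalDegree_add _ _).trans (by simp)
        | exact (totalDegree_sub _ _).trans (by simp)) P).trans hP
  have hsupp : ∀ e : Fin 2 →₀ ℕ, coeff e Q ≠ 0 → e = Finsupp.single 0 g := fun e he => by
    have h1 := congrArg (coeff e) hscale
    rw [coeff_scale, coeff_C_mul, mul_left_inj' he, Fin.prod_univ_two] at h1
    have h2 : (2 : ℚ) ^ (2 * e 0 + e 1) = 2 ^ (2 * g) := by
      rw [pow_add, pow_mul, pow_mul]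
      simpa [show (2 : ℚ) ^ 2 = 4 by norm_num] using h1
    have h3 : 2 * e 0 + e 1 = 2 * g := Nat.pow_right_injective le_rfl (show 2 ^ (2 * e 0 + e 1) = 2 ^ (2 * g) by exact_mod_cast h2)
    have h4 : e 0 + e 1 ≤ g := by
      have := (le_totalDegree (mem_support_iff.2 he)).trans hdeg
      rw [Finsupp.sum_fintype _ _ (fun i => rfl), Fin.sum_univ_two] at this
      exact this
    ext i
    fin_cases i <;> simp <;> omega
  have hQmon : Q = monomial (Finsupp.single 0 g) (coeff (Finsupp.single 0 g) Q) := by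
    ext e
    rw [coeff_monomial]
    split_ifs with he
    · rw [he]
    · by_contra h0
      exact he (hsupp e h0).symm
  have hab : ∀ a b : ℚ, eval ![a, b] P = coeff (Finsupp.single 0 g) Q * (a + b) ^ g := fun a b => by
    have h1 := hQe ![a + b, a - b]
    rw [hQmon, eval_monomial, Finsupp.prod_single_index (by simp)] at h1
    simp at h1
    rw [h1]
  intro a b
  rw [hab a b, hab 1 0]
  simp

theorem alt_sum_pow (g : ℕ) :
    ∑ I : Finset (Fin g), (-1 : ℤ) ^ I.card * (I.card : ℤ) ^ g = (-1) ^ g * (g.factorial : ℤ) := by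
  have h := congrFun (fwdDiff_iter_eq_factorial (R := ℤ) (n := g)) 0
  rw [fwdDiff_iter_eq_sum_shift] at h
  rw [← Finset.powerset_univ, Finset.sum_powerset_apply_card (fun j => (-1 : ℤ) ^ j * (j : ℤ) ^ g), Finset.card_univ,
    Fintype.card_fin]
  rw [show ((g.factorial : ℕ) : ℤ) = (g.factorial : ℤ → ℤ) 0 from rfl, ← h, Finset.mul_sum]
  refine Finset.sum_congr rfl fun j hj => ?_
  have hj' : j ≤ g := by simpa [Nat.lt_succ_iff] using hj
  simp only [zero_add, nsmul_one, smul_eq_mul, Nat.cast_id]
  have hh : (-1 : ℤ) ^ g = (-1) ^ (g - j) * (-1) ^ j := by rw [← pow_add, Nat.sub_add_cancel hj']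
  have h2 : ((-1 : ℤ) ^ (g - j)) * (-1) ^ (g - j) = 1 := by rw [← mul_pow]; simp
  rw [hh]
  linear_combination (-((g.choose j : ℤ) * (-1) ^ j * (j : ℤ) ^ g)) * h2

end Groth.Agent.AVRRLib
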